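import Groth.Agent.NFHilbLib.Flat

/-!
# Spreading out minimal generators of the pieces of `gr_K M`
-/

set_option autoImplicit false
universe u

namespace NFHilbLib

open IsLocalRing

/-- A single element outside `p` carries a finitely generated submodule into a target. -/
theorem exists_smul_le {B V : Type u} [CommRing B] [AddCommGroup V] [Module B V] (p : Ideal B) [p.IsPrime]
    {P T : Submodule B V} (hP : P.FG) (h : ∀ y ∈ P, ∃ s, s ∉ p ∧ s • y ∈ T) :
    ∃ f, f ∉ p ∧ ∀ y ∈ P, f • y ∈ T := by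
  classical
  obtain ⟨G, rfl⟩ := hP
  choose! s hs1 hs2 using h
  refine ⟨∏ y ∈ G, s y, fun hm => ?_, fun z hz => ?_⟩
  · obtain ⟨y, hy, hym⟩ := Ideal.IsPrime.prod_mem_iff.1 hm
    exact hs1 y (Submodule.subset_span hy) hym
  · have hle : Submodule.span B (G : Set V) ≤ T.comap (LinearMap.lsmul B V (∏ y ∈ G, s y)) :=
      Submodule.span_le.2 fun y hy => by
        show (∏ y ∈ G, s y) • y ∈ T
        rw [← Finset.prod_erase_mul G s hy, mul_smul]
        exact T.smul_mem _ (hs2 y (Submodule.subset_span hy))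
    exact hle hz

theorem mem_im_loc {B : Type u} [CommRing B] (S : Submonoid B) {A : Type u} [CommRing A] [Algebra B A] [IsLocalization S A]
    {N M : Type u} [AddCommGroup N] [Module B N] [AddCommGroup M] [Module B M] [Module A M] [IsScalarTower B A M]
    (g : N →ₗ[B] M) [IsLocalizedModule S g] (I : Ideal B) (z : M) :
    z ∈ (I.map (algebraMap B A) • ⊤ : Submodule A M) ↔ ∃ s ∈ S, ∃ n ∈ (I • ⊤ : Submodule B N), s • z = g n := by
  constructor
  · intro hz
    refine Submodule.smul_induction_on hz ?_ ?_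
    · intro a ha y _
      obtain ⟨⟨i, s⟩, hs⟩ := (IsLocalization.mem_map_algebraMap_iff S A).1 ha
      obtain ⟨⟨n, t⟩, ht⟩ := IsLocalizedModule.surj S g y
      refine ⟨s * t, mul_mem s.2 t.2, (i : B) • n, Submodule.smul_mem_smul i.2 trivial, ?_⟩
      rw [map_smul, ← ht, ← algebraMap_smul A ((s : B) * t) (a • y), ← algebraMap_smul A (i : B) (t • y), ← hs,
        Submonoid.smul_def, ← algebraMap_smul A (t : B) y, smul_smul, smul_smul, map_mul]
      congr 1
      ring
    · intro y y' hy hy'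
      obtain ⟨s, hs, n, hn, h1⟩ := hy
      obtain ⟨s', hs', n', hn', h2⟩ := hy'
      refine ⟨s * s', mul_mem hs hs', s' • n + s • n', add_mem (Submodule.smul_mem _ _ hn) (Submodule.smul_mem _ _ hn'), ?_⟩
      rw [map_add, map_smul, map_smul, ← h1, ← h2, smul_smul, smul_smul, smul_add, mul_comm s' s]
  · rintro ⟨s, hs, n, hn, h⟩
    have hu : IsUnit (algebraMap B A s) := IsLocalization.map_units A (⟨s, hs⟩ : S)
    rw [← Submodule.smul_mem_iff_of_isUnit _ hu, algebraMap_smul, h]
    clear h
    refine Submodule.smul_induction_on hn ?_ ?_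
    · intro a ha y _
      rw [map_smul, ← algebraMap_smul A a (g y)]
      exact Submodule.smul_mem_smul (Ideal.mem_map_of_mem _ ha) trivial
    · intro y y' hy hy'
      rw [map_add]; exact add_mem hy hy'

variable {A : Type u} [CommRing A] [IsLocalRing A] [IsNoetherianRing A]
variable {M : Type u} [AddCommGroup M] [Module A M] [Module.Finite A M] {K : Ideal A}

theorem mu_unique (hK : K ≤ maximalIdeal A) (g g' : Gens K M) (r : ℕ) : g.μ r = g'.μ r := by
  rw [← finrank_gen g hK r, ← finrank_gen g' hK r]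

theorem mu_eq (hK : K ≤ maximalIdeal A) (g : Gens K M) (r : ℕ) {m : ℕ} (x : Fin m → M)
    (hspan : Submodule.span A (Set.range x) = im (K ^ r))
    (hind : ∀ a : Fin m → A, ∑ i, a i • x i ∈ (im (K ^ (r + 1)) : Submodule A M) → ∀ i, a i ∈ K) :
    g.μ r = m := by
  classical
  have hmin : ∀ a : Fin m → A, ∑ i, a i • x i ∈ (im (maximalIdeal A * K ^ r) : Submodule A M) →
      ∀ i, a i ∈ maximalIdeal A := by
    intro a ha i
    rw [← smul_im, ← hspan, Submodule.mem_ideal_smul_span_iff_exists_sum] at ha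
    obtain ⟨c, hc, hsum⟩ := ha
    rw [Finsupp.sum_fintype _ _ (by simp)] at hsum
    have h0 : ∑ j, (a j - c j) • x j ∈ (im (K ^ (r + 1)) : Submodule A M) := by
      simp only [sub_smul, Finset.sum_sub_distrib, hsum, sub_self]
      exact zero_mem _
    simpa using add_mem (hK (hind _ h0 i)) (hc i)
  have key : ∀ s, ∃ (k : ℕ) (y : Fin k → M), (Submodule.span A (Set.range y) = im (K ^ s) ∧
      ∀ a : Fin k → A, ∑ i, a i • y i ∈ (im (maximalIdeal A * K ^ s) : Submodule A M) → ∀ i, a i ∈ maximalIdeal A) ∧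
      (s = r → k = m) := fun s => by
    by_cases h : s = r
    · subst h; exact ⟨m, x, ⟨hspan, hmin⟩, fun _ => rfl⟩
    · exact ⟨g.μ s, g.x s, ⟨g.span_eq s, g.minimal s⟩, fun h' => absurd h' h⟩
  choose k y hy hk using key
  rw [mu_unique hK g ⟨k, y, fun s => (hy s).1, fun s => (hy s).2⟩ r]
  exact hk r rfl

theorem exists_spread {B : Type u} [CommRing B] [IsNoetherianRing B] (I : Ideal B)
    {N : Type u} [AddCommGroup N] [Module B N] [Module.Finite B N] (p : Ideal B) [p.IsPrime]
    [Algebra B A] [IsLocalization.AtPrime A p] [Module B M] [IsScalarTower B A M]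
    (f : N →ₗ[B] M) [IsLocalizedModule p.primeCompl f] (g : Gens (I.map (algebraMap B A)) M)
    (hg : g.Ind) (r : ℕ) :
    ∃ c, c ∉ p ∧ ∀ (q : Ideal B) [q.IsPrime] (A' : Type u) [CommRing A'] [Algebra B A'] [IsLocalization.AtPrime A' q]
      [IsLocalRing A'] [IsNoetherianRing A'] (M' : Type u) [AddCommGroup M'] [Module A' M'] [Module.Finite A' M'] [Module B M'] [IsScalarTower B A' M']
      (f' : N →ₗ[B] M') [IsLocalizedModule q.primeCompl f'],
      c ∉ q → I.map (algebraMap B A') ≤ maximalIdeal A' → ∀ g' : Gens (I.map (algebraMap B A')) M',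
      g'.μ r = g.μ r := by
  classical
  have hx : ∀ i, ∃ s ∈ p.primeCompl, ∃ n ∈ (I ^ r • ⊤ : Submodule B N), s • g.x r i = f n := fun i => by
    rw [← mem_im_loc p.primeCompl (A := A), Ideal.map_pow]
    exact x_mem g r i
  choose s hs n hn hsn using hx
  have hu : ∀ {b : B}, b ∈ p.primeCompl → IsUnit (algebraMap B A b) := fun hb => IsLocalization.map_units A (⟨_, hb⟩ : p.primeCompl)
  -- spanning
  obtain ⟨c₁, hc₁, hc₁'⟩ := exists_smul_le p (IsNoetherian.noetherian (I ^ r • ⊤ : Submodule B N))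
    (T := Submodule.span B (Set.range n)) fun y hy => by
      have h1 : f y ∈ (im ((I.map (algebraMap B A)) ^ r) : Submodule A M) := by
        rw [← Ideal.map_pow]
        exact (mem_im_loc p.primeCompl f (I ^ r) (f y)).2 ⟨1, one_mem _, y, hy, one_smul _ _⟩
      rw [← g.span_eq r, Submodule.mem_span_range_iff_exists_fun] at h1
      obtain ⟨a, ha⟩ := h1
      let a' : Fin (g.μ r) → A := fun i => a i * ↑(hu (hs i)).unit⁻¹
      have ha' : ∑ i, a' i • f (n i) = f y := by
        rw [← ha]
        refine Finset.sum_congr rfl fun i _ => ?_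
        rw [← hsn i, ← algebraMap_smul A (s i) (g.x r i), smul_smul, mul_assoc, IsUnit.val_inv_mul, mul_one]
      obtain ⟨⟨b, hb⟩, hint⟩ := IsLocalization.exist_integer_multiples_of_finite p.primeCompl a'
      choose e he using hint
      have h3 : f (b • y) = f (∑ i, e i • n i) := by
        rw [map_smul, ← ha', Finset.smul_sum, map_sum]
        refine Finset.sum_congr rfl fun i _ => ?_
        rw [map_smul, ← algebraMap_smul A (e i) (f (n i)), he i, smul_assoc]
      obtain ⟨⟨c, hc⟩, hc'⟩ := IsLocalizedModule.exists_of_eq (S := p.primeCompl) (f := f) h3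
      refine ⟨c * b, mul_mem (s := p.primeCompl) hc hb, ?_⟩
      rw [mul_smul, show c • b • y = c • ∑ i, e i • n i from hc']
      exact Submodule.smul_mem _ _ (sum_mem fun i _ => Submodule.smul_mem _ _ (Submodule.subset_span ⟨i, rfl⟩))
  -- independence
  obtain ⟨c₂, hc₂, hc₂'⟩ := exists_smul_le p
    (IsNoetherian.noetherian ((I ^ (r + 1) • ⊤ : Submodule B N).comap (Fintype.linearCombination B n)))
    (T := Submodule.pi Set.univ fun _ : Fin (g.μ r) => (I : Submodule B B)) fun b hb => by
      have h1 : ∑ i, (algebraMap B A (b i) * algebraMap B A (s i)) • g.x r i ∈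
          (im ((I.map (algebraMap B A)) ^ (r + 1)) : Submodule A M) := by
        rw [← Ideal.map_pow]
        refine (mem_im_loc p.primeCompl f (I ^ (r + 1)) _).2 ⟨1, one_mem _, _, hb, ?_⟩
        rw [one_smul, Fintype.linearCombination_apply, map_sum]
        refine Finset.sum_congr rfl fun i _ => ?_
        rw [map_smul, ← hsn i, ← map_mul, algebraMap_smul, mul_smul]
      have h2 : ∀ i, ∃ t, t ∉ p ∧ t * b i ∈ I := fun i => by
        obtain ⟨t, ht, h⟩ := (IsLocalization.algebraMap_mem_map_algebraMap_iff p.primeCompl A I (b i)).1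
          ((Ideal.mul_unit_mem_iff_mem _ (hu (hs i))).1 (hg r _ h1 i))
        exact ⟨t, ht, h⟩
      choose t ht htb using h2
      refine ⟨∏ i, t i, fun hm => ?_, fun i _ => ?_⟩
      · obtain ⟨i, -, hi⟩ := Ideal.IsPrime.prod_mem_iff.1 hm
        exact ht i hi
      · show (∏ j, t j) * b i ∈ I
        rw [← Finset.prod_erase_mul Finset.univ t (Finset.mem_univ i), mul_assoc]
        exact I.mul_mem_left _ (htb i)
  refine ⟨c₁ * c₂, mul_mem (s := p.primeCompl) hc₁ hc₂, ?_⟩
  intro q _ A' _ _ _ _ _ M' _ _ _ _ _ f' _ hc hK g'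
  have hu' : ∀ {b : B}, b ∉ q → IsUnit (algebraMap B A' b) := fun hb => IsLocalization.map_units A' (⟨_, hb⟩ : q.primeCompl)
  have hq1 : c₁ ∉ q := fun h => hc (q.mul_mem_right _ h)
  have hq2 : c₂ ∉ q := fun h => hc (q.mul_mem_left _ h)
  refine mu_eq hK g' r (fun i => f' (n i)) (le_antisymm (Submodule.span_le.2 ?_) fun z hz => ?_) fun a ha i => ?_
  · rintro _ ⟨i, rfl⟩
    show f' (n i) ∈ (im _ : Submodule A' M')
    rw [← Ideal.map_pow]
    exact (mem_im_loc q.primeCompl f' (I ^ r) _).2 ⟨1, one_mem _, n i, hn i, one_smul _ _⟩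
  · rw [← Ideal.map_pow] at hz
    obtain ⟨t, ht, m, hm, htm⟩ := (mem_im_loc q.primeCompl f' (I ^ r) z).1 hz
    obtain ⟨d, hd⟩ := (Submodule.mem_span_range_iff_exists_fun B).1 (hc₁' m hm)
    rw [← Submodule.smul_mem_iff_of_isUnit _ ((hu' hq1).mul (hu' (b := t) ht)), ← map_mul, algebraMap_smul, mul_smul,
      htm, ← map_smul, ← hd, map_sum]
    refine sum_mem fun i _ => ?_
    rw [map_smul, ← algebraMap_smul A' (d i) (f' (n i))]
    exact Submodule.smul_mem _ _ (Submodule.subset_span ⟨i, rfl⟩)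
  · obtain ⟨⟨b, hb⟩, hint⟩ := IsLocalization.exist_integer_multiples_of_finite q.primeCompl a
    choose e he using hint
    have h1 : f' (∑ i, e i • n i) ∈ (im ((I.map (algebraMap B A')) ^ (r + 1)) : Submodule A' M') := by
      have : f' (∑ i, e i • n i) = algebraMap B A' b • ∑ i, a i • f' (n i) := by
        rw [map_sum, Finset.smul_sum]
        refine Finset.sum_congr rfl fun i _ => ?_
        rw [map_smul, ← algebraMap_smul A' (e i) (f' (n i)), he i, smul_smul, ← Algebra.smul_def]
      rw [this]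
      exact Submodule.smul_mem _ _ ha
    rw [← Ideal.map_pow] at h1
    obtain ⟨t, ht, m, hm, htm⟩ := (mem_im_loc q.primeCompl f' (I ^ (r + 1)) _).1 h1
    rw [← map_smul] at htm
    obtain ⟨⟨c, hcq⟩, hc'⟩ := IsLocalizedModule.exists_of_eq (S := q.primeCompl) (f := f') htm
    have h2 : c₂ • ((c * t) • e) ∈ Submodule.pi Set.univ fun _ : Fin (g.μ r) => (I : Submodule B B) := by
      refine hc₂' _ ?_
      rw [Submodule.mem_comap, map_smul, Fintype.linearCombination_apply, mul_smul]
      rw [show c • t • (∑ i, e i • n i) = c • m from hc']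
      exact Submodule.smul_mem _ _ hm
    have h3 : c₂ * ((c * t) * e i) ∈ I := h2 i trivial
    have h4 := Ideal.mem_map_of_mem (algebraMap B A') h3
    rw [map_mul, map_mul, map_mul] at h4
    have h5 := (Ideal.unit_mul_mem_iff_mem _ ((hu' hcq).mul (hu' ht))).1 ((Ideal.unit_mul_mem_iff_mem _ (hu' hq2)).1 h4)
    rw [he i, Algebra.smul_def] at h5
    exact (Ideal.unit_mul_mem_iff_mem _ (hu' hb)).1 h5

end NFHilbLib
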